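import Cfsg.Agent.Lib.CosetCert.D.HeN.Tbl
import Cfsg.Agent.Lib.TC.Chain

namespace Cfsg.Agent.Lib.CosetCert.D.HeN.Rels

open Cfsg.Agent.Lib.CosetCert Cfsg.Agent.Lib.TC.Core Cfsg.Agent.Lib.TC.Enc Cfsg.Agent.Lib.TC.Pres Cfsg.Agent.Lib.TC.Perm Cfsg.Agent.Lib.TC.Main

set_option maxRecDepth 100000

/-- All the relators of the chain of letters. -/
def rels : List (List ℕ) :=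
  [[4,4,4],
   [0,2,0,2],
   [0,3,0,3],
   [0,4,0,5],
   [1,4,1,4],
   [2,3,2,3],
   [2,4,2,4],
   [0,3,4,0,5,3],
   [0,3,5,0,4,3],
   [1,2,1,2,1,2],
   [1,3,1,3,1,3],
   [2,3,4,2,4,3],
   [3,4,3,4,3,4],
   [3,4,3,4,3,5,5],
   [0,1,2,1,2,1,0,2],
   [0,1,3,1,3,1,0,3],
   [1,2,1,2,1,3,2,3],
   [0,1,3,4,3,4,3,1,0,5],
   [1,2,4,2,1,3,4,3,4,3],
   [0,1,0,1,2,1,0,1,0,1,2,1,0,1,2],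
   [0,1,0,1,0,1,0,1,2,1,0,1,0,1,0,1,0,1,2,1],
   [0,1,0,1,0,1,0,1,3,1,0,1,0,1,0,1,0,1,3,1],
   [0,1,0,1,0,1,0,1,3,1,0,1,0,1,0,1,0,3,1,3],
   [0,1,2,3,1,0,1,2,3,1,0,1,2,3,1,0,1,3,2,1],
   [0,1,3,4,1,4,3,1,0,2,5,3,1,0,4,0,1,3,5,2],
   [0,1,0,1,2,1,0,1,0,2,1,0,1,2,3,1,0,3,0,1,3],
   [0,1,0,1,3,1,0,2,1,0,1,3,1,0,2,1,0,1,3,1,2],
   [0,1,0,1,3,1,0,2,1,0,3,1,0,2,1,3,1,0,1,3,2],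
   [0,1,2,0,1,3,0,2,3,1,0,2,1,0,3,1,3,1,3,2,1],
   [0,1,0,1,2,1,0,1,0,2,1,0,2,1,2],
   [0,1,0,1,0,1,0,1,0,1,0,1,0,1,0,1,0,1,0,1]]

/-- All the letters. -/
def ls0 : List ℕ := [0,1,2,3,4,5]

end Cfsg.Agent.Lib.CosetCert.D.HeN.Rels
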