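import Cfsg.Agent.Lib.CosetCert.D.HeN.Mat
import Cfsg.Agent.Lib.TC.D.HeChain.Main
import Cfsg.Agent.Lib.TC.Iso

namespace Cfsg.Agent.Lib.CosetCert.D.HeN.Sub

open Cfsg.Agent.Lib.CosetCert Cfsg.Agent.Lib.TC.Core Cfsg.Agent.Lib.TC.Enc Cfsg.Agent.Lib.TC.Pres Cfsg.Agent.Lib.TC.Perm Cfsg.Agent.Lib.TC.Main

set_option maxRecDepth 100000

open Cfsg.Agent.Lib.TC.Chain Cfsg.Agent.Lib.TC.Iso Cfsg.Agent.Lib.TC.G.He Cfsg.Agent.Lib.TC.Chain.PermLev
open Cfsg.Agent.Lib.CosetCert.D.HeN.Tbl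

/-- The words of the letters in the presented group. -/
def W : List (List ℕ) := [[2],[3],[4],[5],[1,2,3,4,1,2,3,4,1,2,3,4,1,2,3,4,1,2,3,4,1,2,3,4,1,2,3,4],[4,3,2,1,4,3,2,1,4,3,2,1,4,3,2,1,4,3,2,1,4,3,2,1,4,3,2,1]]

/-- The word of a letter in the presented group. -/
def w (c : ℕ) : List ℕ := W.getD c []

/-- The relators as words in the presented group. -/
def chk : List (List ℕ) := (Cfsg.Agent.Lib.CosetCert.D.HeN.Rels.rels.map fun l => l.flatMap w) ++ (List.range 6).map (fun c => w c ++ w (inv0 c))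

theorem hchkk : ∀ l ∈ chk, ∀ z ∈ l, z < K.k := by decide +kernel

/-- The base. -/
def base : List ℕ := allBase [0] Cfsg.Agent.Lib.TC.D.HeChain.Lev.levels

theorem hbase : ∀ l ∈ chk, fixAll Cfsg.Agent.Lib.TC.D.HeSp44.Tab.pt base l = true := by decide +kernel

theorem hone {l : List ℕ} (hl : l ∈ chk) : prodA (K.E Rel) l = 1 :=
  word_spec Cfsg.Agent.Lib.TC.D.HeSp44.Ok.ok 4030387200 Cfsg.Agent.Lib.TC.D.HeChain.Main.simple_card.2 (by norm_num) Cfsg.Agent.Lib.TC.D.HeChain.Lev.levels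
    Cfsg.Agent.Lib.TC.D.HeChain.Lev.hlev (by decide +kernel) l (hchkk l hl) (hbase l hl)

/-- The letters in the presented group. -/
noncomputable def g (c : ℕ) : PresentedGroup Rel := prodA (K.E Rel) (w c)

theorem hrelG : ∀ l ∈ Cfsg.Agent.Lib.CosetCert.D.HeN.Rels.rels, prodA g l = 1 := by
  intro l hl
  have hg : g = fun c => prodA (K.E Rel) (w c) := rfl
  rw [hg, prodA_flatMap]
  exact hone (List.mem_append_left _ (List.mem_map.2 ⟨l, hl, rfl⟩))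

theorem hinvG : ∀ c, c < L0.k → g (L0.inv c) = (g c)⁻¹ := by
  intro c hc
  have hc' : c < 6 := hc
  apply eq_inv_of_mul_eq_one_left
  have := hone (l := w c ++ w (inv0 c)) (List.mem_append_right _ (List.mem_map.2 ⟨c, List.mem_range.2 hc', rfl⟩))
  rw [prodA_append] at this
  exact this

theorem hne : ∃ c, c < L0.k ∧ g c ≠ 1 :=
  ⟨0, by decide, word_ne_one Cfsg.Agent.Lib.TC.D.HeSp44.Ok.ok (w 0) (by decide +kernel) 1 (by decide +kernel) (by decide +kernel)⟩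

/-- The subgroup generated by the letters. -/
noncomputable def A : Subgroup (PresentedGroup Rel) := Subgroup.closure (g '' {c | c < L0.k})

theorem exists_equiv : Nonempty (A ≃* L0.G) :=
  closure_equiv_of_chain g L0 Cfsg.Agent.Lib.CosetCert.D.HeN.Rels.ls0 Cfsg.Agent.Lib.CosetCert.D.HeN.Mat.hls0 979200 Cfsg.Agent.Lib.CosetCert.D.HeN.Rels.rels
    (fun E h1 h2 => Cfsg.Agent.Lib.CosetCert.D.HeN.Bound.bound E h1 h2) hinvG Cfsg.Agent.Lib.CosetCert.D.HeN.Mat.hrelkA hrelG Cfsg.Agent.Lib.CosetCert.D.HeN.Mat.hrelA Cfsg.Agent.Lib.CosetCert.D.HeN.Final.card0 hne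

theorem exists_equiv_Sp : Nonempty (A ≃* Cfsg.Agent.Lib.CosetCert.Sp4.Sp) := by
  obtain ⟨e⟩ := exists_equiv
  obtain ⟨e2⟩ := Cfsg.Agent.Lib.CosetCert.D.HeN.Mat.exists_equiv_Sp
  exact ⟨e.trans e2⟩

theorem card_A : Nat.card A = 979200 := by
  obtain ⟨e⟩ := exists_equiv
  rw [Nat.card_congr e.toEquiv, Cfsg.Agent.Lib.CosetCert.D.HeN.Final.card0]

/-- The subgroup of the stabiliser. -/
theorem hA_le : A ≤ Cfsg.Agent.Lib.TC.Main.subOf K Rel Cfsg.Agent.Lib.TC.D.HeSp44.Tab.subs := by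
  have hs : ∀ c, c < 6 → c ≠ 4 → w c ∈ Cfsg.Agent.Lib.TC.D.HeSp44.Tab.subs := by decide +kernel
  rw [A, Subgroup.closure_le]
  rintro _ ⟨c, hc, rfl⟩
  have hc' : c < 6 := hc
  by_cases h4 : c = 4
  · subst h4
    have h5 : g 5 = (g 4)⁻¹ := hinvG 4 (by decide)
    have h6 : g 4 = (g 5)⁻¹ := by rw [h5, inv_inv]
    rw [SetLike.mem_coe, h6]
    exact Subgroup.inv_mem _ (Subgroup.subset_closure ⟨w 5, hs 5 (by decide) (by decide), rfl⟩)
  · exact Subgroup.subset_closure ⟨w c, hs c hc' h4, rfl⟩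

end Cfsg.Agent.Lib.CosetCert.D.HeN.Sub
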